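import Mathlib

/-! Finitely presented modules over valuation rings and Bézout domains. -/

universe u

namespace Groth.Agent.BezoutFP

open Submodule

section Valuation

variable {V : Type u} [CommRing V]

lemma exists_dvd_all [IsDomain V] [ValuationRing V] {ι : Type*} (c : ι → V) :
    ∀ s : Finset ι, s.Nonempty → ∃ i ∈ s, ∀ j ∈ s, c i ∣ c j := by
  classical
  intro s hs
  induction s using Finset.induction_on with
  | empty => exact absurd hs (by simp)
  | insert a s ha ih =>
    rcases s.eq_empty_or_nonempty with rfl | hs'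
    · exact ⟨a, by simp, by simp⟩
    · obtain ⟨i, hi, h⟩ := ih hs'
      rcases ValuationRing.dvd_total (c a) (c i) with h1 | h1
      · exact ⟨a, by simp, by
          simp only [Finset.mem_insert, forall_eq_or_imp, dvd_refl, true_and]
          exact fun j hj => h1.trans (h j hj)⟩
      · exact ⟨i, by simp [hi], by
          simp only [Finset.mem_insert, forall_eq_or_imp]
          exact ⟨h1, h⟩⟩

/-- A finitely presented module over a valuation ring is a finite sum of cyclically presented
modules. -/
theorem exists_equiv_pi_span_singleton [IsDomain V] [ValuationRing V] :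
    ∀ (n : ℕ) (N : Submodule V (Fin n → V)), N.FG →
      ∃ a : Fin n → V, Nonempty (((Fin n → V) ⧸ N) ≃ₗ[V] ((i : Fin n) → V ⧸ Ideal.span {a i})) := by
  intro n
  induction n with
  | zero =>
    intro N _
    haveI : Subsingleton (((Fin 0 → V) ⧸ N)) := Function.Surjective.subsingleton N.mkQ_surjective
    exact ⟨Fin.elim0, ⟨LinearEquiv.ofSubsingleton _ _⟩⟩
  | succ n ih =>
    classical
    rintro N ⟨T, hT⟩
    let T' := insert (0 : Fin (n + 1) → V) T
    have hT' : span V (T' : Set (Fin (n + 1) → V)) = N := by
      simp [T', hT]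
    obtain ⟨⟨x, i0⟩, hx, hdvd⟩ := exists_dvd_all
      (fun p : (Fin (n + 1) → V) × Fin (n + 1) => p.1 p.2) (T' ×ˢ Finset.univ) (by simp [T'])
    have hxN : x ∈ N := hT' ▸ subset_span (Finset.mem_product.1 hx).1
    have hall : ∀ y ∈ N, ∀ i, x i0 ∣ y i := by
      intro y hy
      rw [← hT'] at hy
      induction hy using Submodule.span_induction with
      | mem y hy => exact fun i => hdvd (y, i) (Finset.mem_product.2 ⟨hy, Finset.mem_univ _⟩)
      | zero => simp
      | add a b _ _ ha hb => exact fun i => dvd_add (ha i) (hb i)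
      | smul r a _ ha => exact fun i => Dvd.dvd.mul_left (ha i) r
    choose c hc using fun i => hall x hxN i
    let u : Fin (n + 1) → V := Function.update c i0 1
    have hxu : x = x i0 • u := by
      ext i
      rcases eq_or_ne i i0 with rfl | hi
      · simp [u]
      · simp [u, hi, ← hc i]
    have hu0 : u i0 = 1 := by simp [u]
    let ρ : (Fin (n + 1) → V) →ₗ[V] (Fin n → V) :=
      LinearMap.pi fun j => LinearMap.proj (i0.succAbove j) - u (i0.succAbove j) • LinearMap.proj i0
    obtain ⟨a, ⟨e⟩⟩ := ih (N.map ρ) (Submodule.FG.map ρ ⟨T, hT⟩)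
    let g : (Fin (n + 1) → V) →ₗ[V] (V ⧸ Ideal.span {x i0}) × ((Fin n → V) ⧸ N.map ρ) :=
      ((Ideal.span {x i0}).mkQ ∘ₗ LinearMap.proj i0).prod ((N.map ρ).mkQ ∘ₗ ρ)
    have hker : LinearMap.ker g = N := by
      refine le_antisymm (fun y hy => ?_) fun y hy => ?_
      · have h1 : y i0 ∈ Ideal.span {x i0} := (Submodule.Quotient.mk_eq_zero _).1 (congrArg Prod.fst hy)
        have h2 : ρ y ∈ N.map ρ := (Submodule.Quotient.mk_eq_zero _).1 (congrArg Prod.snd hy)
        obtain ⟨z, hz, hzy⟩ := h2
        obtain ⟨d, hd⟩ := Ideal.mem_span_singleton.1 h1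
        obtain ⟨d', hd'⟩ := hall z hz i0
        have : y = z + (d - d') • x := by
          have hkey : y i0 - z i0 = (d - d') * x i0 := by rw [hd, hd']; ring
          ext i
          rw [hxu]
          rcases Fin.eq_self_or_eq_succAbove i0 i with rfl | ⟨j, rfl⟩
          · simp [hu0, ← hkey]
          · have hj := congrFun hzy j
            simp only [ρ, LinearMap.pi_apply, LinearMap.sub_apply, LinearMap.proj_apply,
              LinearMap.smul_apply, smul_eq_mul] at hj
            simp only [Pi.add_apply, Pi.smul_apply, smul_eq_mul]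
            rw [← mul_assoc, ← hkey]
            linear_combination -hj
        rw [this]
        exact add_mem hz (N.smul_mem _ hxN)
      · refine Prod.ext ((Submodule.Quotient.mk_eq_zero _).2 (Ideal.mem_span_singleton.2 (hall y hy i0))) ?_
        exact (Submodule.Quotient.mk_eq_zero _).2 (Submodule.mem_map_of_mem hy)
    have hsurj : Function.Surjective g := by
      rintro ⟨v, w⟩
      obtain ⟨v, rfl⟩ := Submodule.mkQ_surjective _ v
      obtain ⟨w, rfl⟩ := Submodule.mkQ_surjective _ w
      refine ⟨i0.insertNth (0 : V) w + v • u, ?_⟩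
      have hρ : ρ (i0.insertNth (0 : V) w + v • u) = w := by
        ext j
        simp [ρ, hu0, mul_comm]
      simp [g, hρ, hu0]
    let E1 : ((Fin (n + 1) → V) ⧸ N) ≃ₗ[V] (V ⧸ Ideal.span {x i0}) × ((Fin n → V) ⧸ N.map ρ) :=
      (Submodule.quotEquivOfEq N (LinearMap.ker g) hker.symm).trans (g.quotKerEquivOfSurjective hsurj)
    suffices e2 : ((V ⧸ Ideal.span {x i0}) × ((Fin n → V) ⧸ N.map ρ)) ≃ₗ[V]
        ((i : Fin (n + 1)) → V ⧸ Ideal.span {i0.insertNth (α := fun _ => V) (x i0) a i}) from
      ⟨_, ⟨E1.trans e2⟩⟩
    let G : Fin (n + 1) → Type u := fun i => V ⧸ Ideal.span {i0.insertNth (α := fun _ => V) (x i0) a i}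
    let q0 : (V ⧸ Ideal.span {x i0}) ≃ₗ[V] G i0 := Submodule.quotEquivOfEq _ _ (by simp)
    let q1 : (j : Fin n) → ((V ⧸ Ideal.span {a j}) ≃ₗ[V] G (i0.succAbove j)) :=
      fun j => Submodule.quotEquivOfEq _ _ (by simp)
    exact
      { toFun := fun p => i0.insertNth (α := G) (q0 p.1) fun j => q1 j (e p.2 j)
        map_add' := fun p q => by
          apply (Fin.insertNth_eq_iff (α := G)).2
          constructor
          · simp
          · funext j; simp [Fin.removeNth]
        map_smul' := fun r p => by
          apply (Fin.insertNth_eq_iff (α := G)).2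
          constructor
          · simp
          · funext j; simp [Fin.removeNth]
        invFun := fun f => (q0.symm (f i0), e.symm fun j => (q1 j).symm (f (i0.succAbove j)))
        left_inv := fun p => by simp
        right_inv := fun f => by
          apply (Fin.insertNth_eq_iff (α := G)).2
          constructor
          · simp
          · funext j; simp [Fin.removeNth] }

end Valuation

variable (R : Type u) [CommRing R] [IsDomain R] [IsBezout R]

lemma free_of_fg_submodule_pi : ∀ (n : ℕ) (N : Submodule R (Fin n → R)), N.FG → Module.Free R N := by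
  intro n
  induction n with
  | zero =>
    intro N _
    exact Module.Free.of_subsingleton R N
  | succ n ih =>
    intro N hN
    haveI : Module.Finite R N := Module.Finite.of_fg hN
    let f : N →ₗ[R] R := LinearMap.proj 0 ∘ₗ N.subtype
    let g : N →ₗ[R] (Fin n → R) := LinearMap.funLeft R R Fin.succ ∘ₗ N.subtype
    have hI : (LinearMap.range f).IsPrincipal :=
      IsBezout.isPrincipal_of_FG _ (Module.Finite.fg_top.map f |> fun h => by rwa [Submodule.map_top] at h)
    obtain ⟨d, hd⟩ := hI
    obtain ⟨z, hz⟩ : d ∈ LinearMap.range f := hd ▸ Submodule.mem_span_singleton_self d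
    by_cases hd0 : d = 0
    · have hf : ∀ y, f y = 0 := fun y => by
        have := LinearMap.mem_range_self f y
        rw [hd, hd0] at this
        simpa using this
      have hinj : Function.Injective g := by
        intro y y' h
        apply Subtype.ext
        funext i
        refine Fin.cases ?_ (fun j => congrFun h j) i
        exact (hf y).trans (hf y').symm
      haveI := ih (LinearMap.range g) (Module.Finite.iff_fg.1 inferInstance)
      exact Module.Free.of_equiv (LinearEquiv.ofInjective g hinj).symm
    · have hdiv : ∀ y, ∃ c, c * d = f y := fun y => by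
        have := LinearMap.mem_range_self f y
        rw [hd] at this
        exact Submodule.mem_span_singleton.1 this
      choose c hc using hdiv
      let p : N →ₗ[R] N :=
        { toFun := fun y => y - c y • z
          map_add' := fun a b => by
            have : c (a + b) = c a + c b := mul_right_cancel₀ hd0 (by rw [hc, add_mul, hc, hc, map_add])
            rw [this]; module
          map_smul' := fun r a => by
            have : c (r • a) = r * c a := mul_right_cancel₀ hd0 (by rw [hc, mul_assoc, hc, map_smul, smul_eq_mul])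
            rw [this]; simp only [RingHom.id_apply]; module }
      have hfp : ∀ y, f (p y) = 0 := fun y => by
        simp [p, hz, hc]
      haveI := ih (LinearMap.range (g ∘ₗ p)) (Module.Finite.iff_fg.1 inferInstance)
      let q : N →ₗ[R] R × LinearMap.range (g ∘ₗ p) :=
        LinearMap.prod
          { toFun := c
            map_add' := fun a b => mul_right_cancel₀ hd0 (by rw [hc, add_mul, hc, hc, map_add])
            map_smul' := fun r a => mul_right_cancel₀ hd0 (by
              rw [hc, RingHom.id_apply, smul_eq_mul, mul_assoc, hc, map_smul, smul_eq_mul]) }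
          (g ∘ₗ p).rangeRestrict
      refine Module.Free.of_equiv (LinearEquiv.ofBijective q ⟨?_, ?_⟩).symm
      · rw [injective_iff_map_eq_zero]
        intro y hy
        have h1 : c y = 0 := congrArg Prod.fst hy
        have h2 : g (p y) = 0 := congrArg Subtype.val (congrArg Prod.snd hy)
        have h3 : p y = y := by simp [p, h1]
        rw [h3] at h2
        apply Subtype.ext
        funext i
        refine Fin.cases ?_ (fun j => congrFun h2 j) i
        rw [← h3]; exact hfp y
      · rintro ⟨r, ⟨w, v, rfl⟩⟩
        have hcz : c z = 1 := mul_right_cancel₀ hd0 (by rw [hc, hz, one_mul])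
        have hcp : c (p v) = 0 := mul_right_cancel₀ hd0 (by rw [hc, hfp, zero_mul])
        have hcs : c (p v + r • z) = r := mul_right_cancel₀ hd0 (by
          rw [hc, map_add, hfp, map_smul, hz, smul_eq_mul, zero_add])
        refine ⟨p v + r • z, Prod.ext hcs (Subtype.ext ?_)⟩
        have e1 : p (p v + r • z) = p v := by
          change (p v + r • z) - c (p v + r • z) • z = p v
          rw [hcs]; simp
        have e2 : p v = p (p v) := by
          change _ = p v - c (p v) • z
          rw [hcp]; simp
        change g (p (p v + r • z)) = g (p v)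
        rw [e1]

/-- A finite torsion-free module over a Bézout domain is free. -/
theorem free_of_finite_torsionFree (M : Type u) [AddCommGroup M] [Module R M] [Module.Finite R M]
    [Module.IsTorsionFree R M] : Module.Free R M := by
  classical
  obtain ⟨m, s, hs⟩ := Module.Finite.exists_fin (R := R) (M := M)
  obtain ⟨I, indepI, hI⟩ := exists_maximal_linearIndepOn R s
  have exists_a : ∀ i, ∃ a : R, a ≠ 0 ∧ a • s i ∈ span R (s '' I) := fun i => by
    by_cases hi : i ∈ I
    · exact ⟨1, one_ne_zero, by rw [one_smul]; exact subset_span ⟨i, hi, rfl⟩⟩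
    · exact hI i hi
  choose a ha ha' using exists_a
  have hA : (∏ i, a i) ≠ 0 := Finset.prod_ne_zero_iff.2 fun i _ => ha i
  have hmem : ∀ y : M, (∏ i, a i) • y ∈ span R (s '' I) := by
    intro y
    have hy : y ∈ span R (Set.range s) := hs ▸ mem_top
    induction hy using Submodule.span_induction with
    | mem y hy =>
      obtain ⟨i, rfl⟩ := hy
      rw [← Finset.mul_prod_erase _ _ (Finset.mem_univ i), mul_comm, mul_smul]
      exact smul_mem _ _ (ha' i)
    | zero => simp
    | add a b _ _ ha hb => rw [smul_add]; exact add_mem ha hb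
    | smul r a _ ha => rw [smul_comm]; exact smul_mem _ _ ha
  let φ : M →ₗ[R] span R (s '' I) := LinearMap.codRestrict _ (LinearMap.lsmul R M (∏ i, a i)) hmem
  have hφ : Function.Injective φ := fun x y h => smul_right_injective M hA (congrArg Subtype.val h)
  have hspan : span R (Set.range fun i : I => s i) = span R (s '' I) := by
    rw [Set.image_eq_range]
  let b : Module.Basis I R (span R (s '' I)) :=
    (Module.Basis.span indepI).map (LinearEquiv.ofEq _ _ hspan)
  let κ := (b.reindex (Fintype.equivFin I)).equivFun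
  have hinj : Function.Injective (κ.toLinearMap ∘ₗ φ) := κ.injective.comp hφ
  haveI := free_of_fg_submodule_pi R _ _ (Module.Finite.iff_fg.1
    (inferInstance : Module.Finite R (LinearMap.range (κ.toLinearMap ∘ₗ φ))))
  exact Module.Free.of_equiv (LinearEquiv.ofInjective _ hinj).symm

omit [IsDomain R] in
lemma isBezout_localization {m : Submonoid R} : IsBezout (Localization m) := by
  rw [IsBezout.iff_span_pair_isPrincipal]
  intro x y
  obtain ⟨⟨a, s⟩, ha⟩ := IsLocalization.surj m x
  obtain ⟨⟨b, t⟩, hb⟩ := IsLocalization.surj m y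
  obtain ⟨g, hg⟩ := IsBezout.span_pair_isPrincipal a b
  refine ⟨algebraMap R _ g, ?_⟩
  have h : Ideal.span {x, y} = (Ideal.span {a, b}).map (algebraMap R (Localization m)) := by
    rw [Ideal.map_span, Set.image_pair]
    refine le_antisymm (Ideal.span_le.2 ?_) (Ideal.span_le.2 ?_) <;>
      simp only [Set.insert_subset_iff, Set.singleton_subset_iff, SetLike.mem_coe]
    · refine ⟨?_, ?_⟩
      · rw [← (Ideal.span _).mul_unit_mem_iff_mem (IsLocalization.map_units _ s), ha]
        exact subset_span (by simp)
      · rw [← (Ideal.span _).mul_unit_mem_iff_mem (IsLocalization.map_units _ t), hb]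
        exact subset_span (by simp)
    · exact ⟨ha ▸ Ideal.mul_mem_right _ _ (subset_span (by simp)),
        hb ▸ Ideal.mul_mem_right _ _ (subset_span (by simp))⟩
  rw [h, hg]
  exact Ideal.map_span _ _ |>.trans (by simp [Set.image_singleton])

omit [IsBezout R] in
/-- `c • id` on `T` factors through a finite sum of `R ⧸ (f_j)`, all `f_j ≠ 0`. -/
def Factors (T : Type u) [AddCommGroup T] [Module R T] (c : R) : Prop :=
  ∃ (n : ℕ) (f : Fin n → R), (∀ j, f j ≠ 0) ∧
    ∃ (i : T →ₗ[R] ((j : Fin n) → R ⧸ Ideal.span {f j}))
      (p : ((j : Fin n) → R ⧸ Ideal.span {f j}) →ₗ[R] T), p ∘ₗ i = c • LinearMap.id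

lemma exists_factors_notMem (T : Type u) [AddCommGroup T] [Module R T]
    [Module.FinitePresentation R T] (htors : Module.IsTorsion R T) (m : Ideal R) [m.IsMaximal] :
    ∃ c ∉ m, Factors R T c := by
  classical
  let S := m.primeCompl
  let V := Localization.AtPrime m
  let Tm := LocalizedModule S T
  let mk := LocalizedModule.mkLinearMap S T
  haveI : IsBezout V := isBezout_localization R
  haveI : IsDomain V := IsLocalization.isDomain_localization m.primeCompl_le_nonZeroDivisors
  haveI : Module.FinitePresentation V Tm := inferInstance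
  obtain ⟨n, π, hπ⟩ := Module.Finite.exists_fin' V Tm
  obtain ⟨α, ⟨e0⟩⟩ := exists_equiv_pi_span_singleton n _ (Module.FinitePresentation.fg_ker π hπ)
  let e : Tm ≃ₗ[V] ((i : Fin n) → V ⧸ Ideal.span {α i}) :=
    (π.quotKerEquivOfSurjective hπ).symm.trans e0
  let y : Fin n → Tm := fun i => e.symm (Pi.single i (Ideal.Quotient.mk _ 1))
  have hann : ∀ t : Tm, ∃ b : R, b ≠ 0 ∧ algebraMap R V b • t = 0 := fun t => by
    obtain ⟨⟨t0, s⟩, rfl⟩ := IsLocalizedModule.mk'_surjective S mk t
    obtain ⟨⟨b, hb⟩, hbt⟩ := @htors t0
    refine ⟨b, nonZeroDivisors.ne_zero hb, ?_⟩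
    rw [algebraMap_smul, Function.uncurry_apply_pair, ← IsLocalizedModule.mk'_smul]
    simp only [Submonoid.mk_smul] at hbt
    rw [hbt, IsLocalizedModule.mk'_zero]
  have hα : ∀ i, α i ≠ 0 := fun i h => by
    obtain ⟨b, hb, hb0⟩ := hann (y i)
    have h2 := congrArg (fun f => f i) (congrArg e hb0)
    simp only [y, map_smul, LinearEquiv.apply_symm_apply, map_zero, Pi.zero_apply, Pi.smul_apply,
      Pi.single_eq_same] at h2
    have h3 : algebraMap R V b * 1 ∈ Ideal.span {α i} := (Submodule.Quotient.mk_eq_zero _).1 h2
    rw [h, Set.singleton_zero, Ideal.span_zero, Ideal.mem_bot, mul_one] at h3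
    exact hb ((IsLocalization.injective V m.primeCompl_le_nonZeroDivisors) (h3.trans (map_zero _).symm))
  have hαy : ∀ i, α i • y i = 0 := fun i => by
    simp only [y, ← map_smul, ← Pi.single_smul]
    rw [show α i • Ideal.Quotient.mk (Ideal.span {α i}) 1 = 0 from
      (Submodule.Quotient.mk_eq_zero _).2 (by simp [Ideal.mem_span_singleton]), Pi.single_zero, map_zero]
  choose as hs using fun i => IsLocalization.surj S (α i)
  choose xs hx using fun i => IsLocalizedModule.surj S mk (y i)
  let a : Fin n → R := fun i => (as i).1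
  have ha : ∀ i, a i ≠ 0 := fun i h => by
    have := hs i
    rw [show (as i).1 = 0 from h, map_zero] at this
    exact hα i ((mul_eq_zero.1 this).resolve_right (IsLocalization.map_units V (as i).2).ne_zero)
  have hax : ∀ i, ∃ u : S, (u : R) • a i • (xs i).1 = 0 := fun i => by
    have : mk (a i • (xs i).1) = 0 := by
      rw [map_smul, ← hx i, ← algebraMap_smul V (a i), ← hs i, Submonoid.smul_def,
        ← algebraMap_smul V ((xs i).2 : R) (y i), smul_smul,
        show α i * algebraMap R V (as i).2 * algebraMap R V (xs i).2 =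
          (algebraMap R V (as i).2 * algebraMap R V (xs i).2) * α i by ring,
        mul_smul, hαy, smul_zero]
    obtain ⟨u, hu⟩ := (IsLocalizedModule.eq_zero_iff S mk).1 this
    exact ⟨u, hu⟩
  choose w hw using hax
  let x : Fin n → T := fun i => (w i : R) • (xs i).1
  have hax : ∀ i, a i • x i = 0 := fun i => by rw [smul_comm, hw]
  let r : Fin n → R := fun i => (w i : R) * ((xs i).2 : R)
  have hxy : ∀ i, mk (x i) = algebraMap R V (r i) • y i := fun i => by
    rw [map_smul, ← hx i, Submonoid.smul_def, smul_smul, algebraMap_smul]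
  have hr : ∀ i, IsUnit (algebraMap R V (r i)) := fun i => by
    rw [map_mul]
    exact (IsLocalization.map_units V (w i)).mul (IsLocalization.map_units V (xs i).2)
  -- maps
  let P := (j : Fin n) → R ⧸ Ideal.span {a j}
  let φj : (j : Fin n) → (R ⧸ Ideal.span {a j}) →ₗ[R] T := fun j =>
    Submodule.liftQ _ (LinearMap.toSpanSingleton R T (x j)) (by
      rw [Ideal.submodule_span_eq.symm, Submodule.span_le, Set.singleton_subset_iff]
      exact hax j)
  let φ : P →ₗ[R] T := LinearMap.lsum R _ R φj
  let Pm := LocalizedModule S P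
  let mkP := LocalizedModule.mkLinearMap S P
  have hz : ∀ i, α i • mkP (Pi.single i (Submodule.Quotient.mk 1)) = 0 := fun i => by
    refine (IsLocalization.map_units V (as i).2).smul_eq_zero.1 ?_
    rw [smul_smul, mul_comm, hs i, algebraMap_smul, ← map_smul, ← Pi.single_smul,
      ← Submodule.Quotient.mk_smul, (Submodule.Quotient.mk_eq_zero _).2
        (Ideal.mem_span_singleton.2 ⟨1, by simp [a]⟩), Pi.single_zero, map_zero]
  let σj : (i : Fin n) → (V ⧸ Ideal.span {α i}) →ₗ[V] Pm := fun i =>
    Submodule.liftQ _ (LinearMap.toSpanSingleton V Pm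
      (((hr i).unit⁻¹ : Vˣ) • mkP (Pi.single i (Submodule.Quotient.mk 1)))) (by
      rw [Ideal.submodule_span_eq.symm, Submodule.span_le, Set.singleton_subset_iff]
      simp only [SetLike.mem_coe, LinearMap.mem_ker, LinearMap.toSpanSingleton_apply, Units.smul_def]
      rw [smul_comm, hz, smul_zero])
  let σ : Tm →ₗ[V] Pm := LinearMap.lsum V _ V σj ∘ₗ e.toLinearMap
  let Φ := LocalizedModule.map S φ
  have hΦσ : Φ ∘ₗ σ = LinearMap.id := by
    apply LinearMap.ext
    intro t
    have ht : t = ∑ i, e.symm (Pi.single i (e t i)) := by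
      rw [← map_sum, Finset.univ_sum_single, LinearEquiv.symm_apply_apply]
    rw [ht, map_sum, map_sum]
    refine Finset.sum_congr rfl fun i _ => ?_
    obtain ⟨v, hv⟩ := Ideal.Quotient.mk_surjective (e t i)
    rw [← hv, show Ideal.Quotient.mk (Ideal.span {α i}) v = v • Ideal.Quotient.mk _ 1 from
      (congrArg (Submodule.Quotient.mk) (mul_one v).symm), Pi.single_smul (f := fun j => V ⧸ Ideal.span {α j}),
      map_smul, map_smul, map_smul]
    congr 1
    simp only [σ, LinearMap.comp_apply, LinearEquiv.coe_coe, LinearEquiv.apply_symm_apply,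
      LinearMap.lsum_apply, LinearMap.coe_sum, Finset.sum_apply, LinearMap.coe_proj,
      Function.eval, LinearMap.id_apply]
    rw [Finset.sum_eq_single i (fun j _ hj => by simp [Pi.single_eq_of_ne hj]) (by simp),
      Pi.single_eq_same]
    change Φ ((1 : V) • (((hr i).unit⁻¹ : Vˣ) • mkP (Pi.single i (Submodule.Quotient.mk 1)))) = y i
    have hφ1 : φ (Pi.single i (Submodule.Quotient.mk 1)) = x i := by
      simp only [φ, LinearMap.lsum_apply, LinearMap.coe_sum, Finset.sum_apply, LinearMap.comp_apply,
        LinearMap.coe_proj, Function.eval]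
      rw [Finset.sum_eq_single i (fun j _ hj => by
        change φj j (Pi.single (M := fun j => R ⧸ Ideal.span {a j}) i (Submodule.Quotient.mk 1) j) = 0
        rw [Pi.single_eq_of_ne hj, map_zero]) (by simp)]
      change φj i (Pi.single (M := fun j => R ⧸ Ideal.span {a j}) i (Submodule.Quotient.mk 1) i) = x i
      rw [Pi.single_eq_same]
      exact one_smul R (x i)
    rw [one_smul, Units.smul_def, map_smul]
    change _ • (LocalizedModule.map S φ) (LocalizedModule.mk _ 1) = _
    rw [LocalizedModule.map_mk, hφ1]
    change _ • mk (x i) = _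
    rw [hxy, smul_smul, IsUnit.val_inv_mul, one_smul]
  obtain ⟨h, s, hh⟩ := Module.FinitePresentation.exists_lift_of_isLocalizedModule S mkP
    ((σ.restrictScalars R) ∘ₗ mk)
  have hcomp : mk ∘ₗ (φ ∘ₗ h) = mk ∘ₗ ((s : R) • LinearMap.id) := by
    apply LinearMap.ext
    intro t
    have h1 : Φ (mkP (h t)) = mk (φ (h t)) := LocalizedModule.map_mk S φ _ _
    change mk (φ (h t)) = mk ((s : R) • t)
    rw [← h1, show mkP (h t) = (s : R) • σ (mk t) from LinearMap.congr_fun hh t,
      ← algebraMap_smul V (s : R), map_smul, map_smul, algebraMap_smul]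
    exact congrArg _ (LinearMap.congr_fun hΦσ (mk t))
  obtain ⟨s', hs'⟩ := Module.Finite.exists_smul_of_comp_eq_of_isLocalizedModule S mk _ _ hcomp
  refine ⟨(s' : R) * s, fun hmem => (S.mul_mem s'.2 s.2) hmem, n, a, ha, (s' : R) • h, φ, ?_⟩
  rw [LinearMap.comp_smul, mul_smul]
  simpa only [Submonoid.smul_def] using hs'

theorem factors_one (T : Type u) [AddCommGroup T] [Module R T] [Module.FinitePresentation R T]
    (htors : Module.IsTorsion R T) : Factors R T 1 := by
  classical
  let I : Ideal R :=
    { carrier := {c | Factors R T c}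
      zero_mem' := ⟨0, Fin.elim0, fun j => j.elim0, 0, 0, by simp⟩
      add_mem' := by
        rintro c d ⟨n, f, hf, i, p, hp⟩ ⟨n', f', hf', i', p', hp'⟩
        let F : Fin n ⊕ Fin n' → R := Sum.elim f f'
        let e := (Fintype.equivFin (Fin n ⊕ Fin n'))
        let P := (j : Fin n ⊕ Fin n') → R ⧸ Ideal.span {F j}
        let I1 : T →ₗ[R] P := LinearMap.pi fun j => Sum.rec (motive := fun j => T →ₗ[R] R ⧸ Ideal.span {F j})
          (fun j => LinearMap.proj j ∘ₗ i) (fun j => LinearMap.proj j ∘ₗ i') j
        let P1 : P →ₗ[R] T := p ∘ₗ (LinearMap.pi fun j => LinearMap.proj (Sum.inl j)) +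
          p' ∘ₗ (LinearMap.pi fun j => LinearMap.proj (Sum.inr j))
        have h1 : P1 ∘ₗ I1 = (c + d) • LinearMap.id := by
          rw [add_smul, ← hp, ← hp']
          rfl
        let E : ((j : Fin (Fintype.card (Fin n ⊕ Fin n'))) → R ⧸ Ideal.span {F (e.symm j)}) ≃ₗ[R] P :=
          LinearEquiv.piCongrLeft R (fun j => R ⧸ Ideal.span {F j}) e.symm
        refine ⟨_, fun j => F (e.symm j), fun j => ?_, E.symm.toLinearMap ∘ₗ I1, P1 ∘ₗ E.toLinearMap, ?_⟩
        · rcases h : e.symm j with k | k
          · simpa [F, h] using hf k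
          · simpa [F, h] using hf' k
        · rw [← h1, LinearMap.comp_assoc, ← LinearMap.comp_assoc _ _ E.toLinearMap]
          simp
      smul_mem' := by
        rintro r c ⟨n, f, hf, i, p, hp⟩
        exact ⟨n, f, hf, r • i, p, by rw [LinearMap.comp_smul, hp, smul_smul, smul_eq_mul]⟩ }
  have hI : I = ⊤ := by
    by_contra h
    obtain ⟨m, hm, hIm⟩ := I.exists_le_maximal h
    obtain ⟨c, hc, hF⟩ := exists_factors_notMem R T htors m
    exact hc (hIm hF)
  exact (Ideal.eq_top_iff_one I).1 hI

end Groth.Agent.BezoutFP
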